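import Cfsg.Agent.Lib.RankOneSylow.Dihedral
import Cfsg.Agent.Lib.Involution.Basic

/-!
# Groups with dihedral or abelian Sylow 2-subgroups (owner: helper80)

* `SylClass G`               : every Sylow 2-subgroup is abelian or dihedral
* `SylClass.subgroup`        : it passes to subgroups
* `SylClass.quotient`        : it passes to quotients
-/

set_option autoImplicit false
set_option linter.unusedSectionVars false
set_option linter.style.haveILetI false

namespace Cfsg.Agent.PiHomogOdd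

open Subgroup

universe u

/-- Every Sylow 2-subgroup is abelian or dihedral. -/
def SylClass (G : Type*) [Group G] : Prop :=
  ∀ S : Sylow 2 G, IsMulCommutative S ∨ ∃ n : ℕ, Nonempty ((S : Subgroup G) ≃* DihedralGroup n)

variable {G : Type u} [Group G] [Finite G]

theorem exists_two_pow {P : Subgroup G} (hP : IsPGroup 2 P) {n : ℕ} (e : P ≃* DihedralGroup n) :
    ∃ a : ℕ, n = 2 ^ a := by
  haveI : Fact (Nat.Prime 2) := ⟨Nat.prime_two⟩
  obtain ⟨k, hk⟩ := IsPGroup.iff_card.1 hP
  rw [Nat.card_congr e.toEquiv, DihedralGroup.nat_card] at hk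
  rcases k with _ | k
  · omega
  · refine ⟨k, ?_⟩
    rw [pow_succ'] at hk
    omega

/-- Subgroups of abelian or dihedral 2-groups. -/
theorem class_of_le {U W : Subgroup G} (hU : IsPGroup 2 U) (hW : W ≤ U)
    (h : IsMulCommutative U ∨ ∃ n : ℕ, Nonempty (U ≃* DihedralGroup n)) :
    IsMulCommutative W ∨ ∃ n : ℕ, Nonempty (W ≃* DihedralGroup n) := by
  rcases h with h | ⟨n, ⟨e⟩⟩
  · exact Or.inl ⟨⟨fun a b => Subtype.ext
      (congrArg Subtype.val (h.is_comm.comm ⟨a, hW a.2⟩ ⟨b, hW b.2⟩) :)⟩⟩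
  · obtain ⟨a, rfl⟩ := exists_two_pow hU e
    by_cases hc : IsCyclic W
    · exact Or.inl ⟨⟨fun x y => by
        obtain ⟨g, hg⟩ := hc.exists_generator
        obtain ⟨i, rfl⟩ := hg x
        obtain ⟨j, rfl⟩ := hg y
        exact ((Commute.refl g).zpow_zpow i j).eq⟩⟩
    · obtain ⟨b, -, hb⟩ := RankOneSylow.exists_dihedral_of_le e hW hc
      exact Or.inr ⟨_, hb⟩

/-- A group generated by two involutions or fewer. -/
theorem class_closure_pair {x y : G} (hx : x * x = 1) (hy : y * y = 1) :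
    IsMulCommutative (closure ({x, y} : Set G)) ∨
      ∃ n : ℕ, Nonempty (closure ({x, y} : Set G) ≃* DihedralGroup n) := by
  by_cases hcomm : Commute x y
  · refine Or.inl (isMulCommutative_closure ?_)
    rintro a (rfl | rfl) b (rfl | rfl)
    exacts [rfl, hcomm.eq, hcomm.eq.symm, rfl]
  · have hx1 : x ≠ 1 := fun e => hcomm (e ▸ Commute.one_left y)
    have hy1 : y ≠ 1 := fun e => hcomm (e ▸ Commute.one_right x)
    have hne : x ≠ y := fun e => hcomm (e ▸ Commute.refl y)
    exact Or.inr ⟨_, ⟨(Involution.dihedralEquiv (Involution.orderOf_of_sq hx hx1)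
      (Involution.orderOf_of_sq hy hy1) hne).symm⟩⟩

theorem SylClass.subgroup (h : SylClass G) (H : Subgroup G) : SylClass ↥H := by
  intro P
  haveI : Fact (Nat.Prime 2) := ⟨Nat.prime_two⟩
  obtain ⟨S, hS⟩ := (P.2.map H.subtype).exists_le_sylow
  let e : (P : Subgroup H) ≃* (P : Subgroup H).map H.subtype :=
    equivMapOfInjective _ _ H.subtype_injective
  rcases class_of_le S.2 hS (h S) with h' | ⟨n, ⟨f⟩⟩
  · exact Or.inl ⟨⟨fun a b => e.injective (by rw [map_mul, map_mul]; exact h'.is_comm.comm _ _)⟩⟩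
  · exact Or.inr ⟨n, ⟨e.trans f⟩⟩

theorem closure_dihedral (n : ℕ) [NeZero n] :
    closure ({DihedralGroup.sr 0, DihedralGroup.sr 1} : Set (DihedralGroup n)) = ⊤ := by
  refine eq_top_iff.2 fun x _ => ?_
  set K := closure ({DihedralGroup.sr 0, DihedralGroup.sr 1} : Set (DihedralGroup n))
  have h0 : DihedralGroup.sr 0 ∈ K := subset_closure (Or.inl rfl)
  have h1 : DihedralGroup.sr 1 ∈ K := subset_closure (Or.inr rfl)
  have hr : ∀ j, DihedralGroup.r j ∈ K := fun j => by
    have := mul_mem h0 h1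
    rw [DihedralGroup.sr_mul_sr, sub_zero] at this
    rw [← ZMod.natCast_zmod_val j, ← DihedralGroup.r_one_pow]
    exact pow_mem this _
  cases x with
  | r j => exact hr j
  | sr j =>
    have := mul_mem h0 (hr j)
    rwa [DihedralGroup.sr_mul_r, zero_add] at this

theorem SylClass.quotient (h : SylClass G) (N : Subgroup G) [N.Normal] : SylClass (G ⧸ N) := by
  intro P
  haveI : Fact (Nat.Prime 2) := ⟨Nat.prime_two⟩
  set f := QuotientGroup.mk' N
  obtain ⟨S, rfl⟩ := Sylow.mapSurjective_surjective (QuotientGroup.mk'_surjective N) 2 P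
  rw [Sylow.coe_mapSurjective]
  rcases h S with h' | ⟨n, ⟨e⟩⟩
  · refine Or.inl ⟨⟨?_⟩⟩
    rintro ⟨_, a, ha, rfl⟩ ⟨_, b, hb, rfl⟩
    refine Subtype.ext ?_
    show f a * f b = f b * f a
    rw [← map_mul, ← map_mul]
    exact congrArg f (congrArg Subtype.val (h'.is_comm.comm ⟨a, ha⟩ ⟨b, hb⟩) :)
  · obtain ⟨a, rfl⟩ := exists_two_pow S.2 e
    haveI : NeZero (2 ^ a) := ⟨by positivity⟩
    let g : DihedralGroup (2 ^ a) →* G ⧸ N :=
      f.comp ((S : Subgroup G).subtype.comp e.symm.toMonoidHom)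
    have hmap : (S : Subgroup G).map f = closure ({g (DihedralGroup.sr 0), g (DihedralGroup.sr 1)}) := by
      rw [show ({g (DihedralGroup.sr 0), g (DihedralGroup.sr 1)} : Set (G ⧸ N)) =
        g '' {DihedralGroup.sr 0, DihedralGroup.sr 1} by rw [Set.image_pair], ← MonoidHom.map_closure,
        closure_dihedral]
      ext z
      constructor
      · rintro ⟨x, hx, rfl⟩
        exact ⟨e ⟨x, hx⟩, mem_top _, by simp [g]⟩
      · rintro ⟨w, -, rfl⟩
        exact ⟨_, (e.symm w).2, rfl⟩
    rw [hmap]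
    refine class_closure_pair ?_ ?_ <;> rw [← map_mul, DihedralGroup.sr_mul_self, map_one]

end Cfsg.Agent.PiHomogOdd
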