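import Cfsg.Agent.Lib.PiHomogOdd.Simple
import Cfsg.Agent.Lib.AbelianSylowUse.Eight
import Cfsg.Agent.Lib.GWDihedral.Main

/-!
# Pi-homogeneous groups with dihedral or abelian Sylow 2-subgroups (owner: helper80)

* `ReeNoPi`      : the small Ree groups, as a proposition
* `split_of_inputs` : the theorem of S4047, given `WalterStatement` and `ReeNoPi`
-/

set_option autoImplicit false
set_option linter.unusedSectionVars false
set_option linter.style.haveILetI false

namespace Cfsg.Agent.PiHomogOdd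

open Subgroup
open Cfsg.Agent.PiHomog (Homog Split)

universe u

/-- The groups of Ree order are not pi-homogeneous for odd pi meeting the order. -/
def ReeNoPi : Prop :=
  ∀ (G : Type u) [Group G] [Finite G] [IsSimpleGroup G], ¬ IsMulCommutative G →
    (∀ S : Sylow 2 G, IsMulCommutative (S : Subgroup G)) → Cfsg.IsRee G →
    ∀ π : Set ℕ, (∀ p ∈ π, p ≠ 2) → Homog π G → (∀ U : Subgroup G, U ≠ ⊤ → Split π ↥U) →
    ∀ p : ℕ, p.Prime → p ∣ Nat.card G → p ∉ π

variable {π : Set ℕ}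

theorem no_pi_simple (hW : AbelianSylowUse.WalterStatement.{u}) (hR : ReeNoPi.{u}) {G : Type u} [Group G] [Finite G]
    [IsSimpleGroup G] (hna : ¬ IsMulCommutative G) (h : Hyp π G)
    (hsub : ∀ U : Subgroup G, U ≠ ⊤ → Split π ↥U) : ∀ p : ℕ, p.Prime → p ∣ Nat.card G → p ∉ π := by
  obtain ⟨S⟩ : Nonempty (Sylow 2 G) := inferInstance
  haveI : Fact (Nat.Prime 2) := ⟨Nat.prime_two⟩
  have habelian : IsMulCommutative (S : Subgroup G) → ∀ p : ℕ, p.Prime → p ∣ Nat.card G → p ∉ π := by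
    intro hS
    rcases hW G hna S hS with ⟨_, _, F, _, _, _, ⟨e⟩⟩ | ⟨F, _, _, _, ⟨e⟩⟩ | hree | hj
    · exact no_pi_psl h.odd hna h.homog e
    · exact no_pi_psl h.odd hna h.homog e
    · refine hR G hna (fun T => ?_) hree π h.odd h.homog hsub
      obtain ⟨g, rfl⟩ := MulAction.exists_smul_eq G S T
      refine ⟨⟨?_⟩⟩
      rintro ⟨_, a, ha, rfl⟩ ⟨_, b, hb, rfl⟩
      refine Subtype.ext ?_
      show MulAut.conj g a * MulAut.conj g b = MulAut.conj g b * MulAut.conj g a
      rw [← map_mul, ← map_mul]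
      exact congrArg (MulAut.conj g) (congrArg Subtype.val (hS.is_comm.comm ⟨a, ha⟩ ⟨b, hb⟩) :)
    · exact no_pi_j1 h.odd hna h.homog hj.2
  rcases h.cls S with hS | ⟨n, ⟨e⟩⟩
  · exact habelian hS
  · obtain ⟨a, rfl⟩ := exists_two_pow S.2 e
    rcases Nat.eq_zero_or_pos a with rfl | ha
    · refine habelian ⟨⟨fun x y => e.injective ?_⟩⟩
      rw [map_mul, map_mul]
      haveI : Fact (Nat.Prime 2) := ⟨Nat.prime_two⟩
      haveI : IsCyclic (DihedralGroup (2 ^ 0)) := isCyclic_of_prime_card (p := 2)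
        (by rw [DihedralGroup.nat_card]; rfl)
      exact (IsCyclic.commGroup (α := DihedralGroup (2 ^ 0))).mul_comm _ _
    · rcases GWDihedral.dihedralGW G inferInstance hna S (2 ^ a)
        (Nat.le_self_pow (by omega) 2) ⟨e⟩ with ⟨F, _, _, _, ⟨g⟩⟩ | hg
      · exact no_pi_psl h.odd hna h.homog g
      · exact hg.elim fun g => no_pi_altSeven h.odd hna h.homog g

/-- The `π'`-elements form a subgroup. -/
theorem split_of_inputs (hW : AbelianSylowUse.WalterStatement.{u}) (hR : ReeNoPi.{u}) {G : Type u} [Group G] [Finite G]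
    (hodd : ∀ p ∈ π, p ≠ 2) (hcls : SylClass G) (hhom : Homog π G) :
    ∃ K : Subgroup G, ∀ x : G, x ∈ K ↔ ∀ p : ℕ, p.Prime → p ∣ orderOf x → p ∉ π :=
  split_of_simple (fun _ _ _ _ hna hH hsub => ⟨⊤, fun x => ⟨fun _ p hp hd =>
    no_pi_simple hW hR hna hH hsub p hp (hd.trans (orderOf_dvd_natCard x)), fun _ => mem_top x⟩⟩) _ G rfl
    ⟨hodd, hhom, hcls⟩

end Cfsg.Agent.PiHomogOdd
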