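import Cfsg.Agent.Lib.PiHomogOdd.Simple
import Cfsg.Agent.Lib.AbelianSylow.Local.Basic

/-!
# The small Ree case of the pi-homogeneity theorem (owner: helper80)

* `no_pi_jt` : in the Janko-Thompson situation with `q = 3^(2m+1)` and Ree order, if every prime
  `s ≠ 3` dividing `q² - q + 1` has an inverted element, then no prime of `π` divides the order
-/

set_option autoImplicit false
set_option linter.unusedSectionVars false
set_option linter.style.haveILetI false

namespace Cfsg.Agent.PiHomogOdd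

open Subgroup AbelianSylow AbelianSylow.Local
open Cfsg.Agent.PiHomog (Homog)

universe u

variable {π : Set ℕ} {G : Type u} [Group G] [Finite G] {F : Type} [Field F] [Fintype F]

/-- No prime of `π` divides the order of a group of Ree order in the Janko-Thompson situation. -/
theorem no_pi_jt (hodd : ∀ p ∈ π, p ≠ 2) (h : Homog π G) {t : G} (hJ : JTData G t F) {m : ℕ}
    (hq : Fintype.card F = 3 ^ (2 * m + 1))
    (hcard : Nat.card G = Fintype.card F ^ 3 * (Fintype.card F ^ 3 + 1) * (Fintype.card F - 1))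
    (hreal : ∀ s : ℕ, s.Prime → s ≠ 3 → s ∣ Fintype.card F ^ 2 - Fintype.card F + 1 →
      ∃ x u : G, orderOf x = s ∧ u * u = 1 ∧ u * x * u⁻¹ = x⁻¹) :
    ∀ p : ℕ, p.Prime → p ∣ Nat.card G → p ∉ π := by
  haveI := hJ.simple
  refine no_pi_of_single hJ.nonab h 3 fun p hp hpπ hpd => ?_
  by_contra hne
  haveI : Fact p.Prime := ⟨hp⟩
  obtain ⟨L, hL⟩ := exists_lfac hJ
  set q := Fintype.card F with hqdef
  have hp2 : p ≠ 2 := hodd p hpπ
  have h5 := hJ.five
  by_cases hpQ : p ∣ q ^ 2 - q + 1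
  · obtain ⟨x, u, hx, hu, hxu⟩ := hreal p hp hne hpQ
    exact not_inverted hodd h hp hx hu hxu hpπ
  -- otherwise `p` divides the order of `L`
  have hpL : p ∣ Nat.card L := by
    have h1 : q ^ 3 + 1 = (q + 1) * (q ^ 2 - q + 1) := by
      have : q ≤ q ^ 2 := Nat.le_self_pow (by norm_num) q
      zify [this]
      ring
    rw [hcard, h1] at hpd
    rcases hp.dvd_mul.1 hpd with hpd | h'
    rcases hp.dvd_mul.1 hpd with hpd | h'
    · exact absurd ((Nat.prime_dvd_prime_iff_eq hp Nat.prime_three).1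
        (hp.dvd_of_dvd_pow (hq ▸ hp.dvd_of_dvd_pow hpd))) hne
    · have h2 : p ∣ 2 * Nat.card L := hL.card_L ▸
        dvd_mul_of_dvd_right (dvd_mul_of_dvd_left ((hp.dvd_mul.1 h').resolve_right hpQ) _) _
      exact (hp.dvd_mul.1 h2).resolve_left fun e => hp2 ((Nat.prime_dvd_prime_iff_eq hp Nat.prime_two).1 e)
    · have h2 : p ∣ 2 * Nat.card L := hL.card_L ▸
        dvd_mul_of_dvd_right (dvd_mul_of_dvd_right h' _) _
      exact (hp.dvd_mul.1 h2).resolve_left fun e => hp2 ((Nat.prime_dvd_prime_iff_eq hp Nat.prime_two).1 e)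
  obtain ⟨x, hx⟩ := exists_prime_orderOf_dvd_card' (G := L) p hpL
  obtain ⟨e⟩ := hL.iso
  obtain ⟨c, hc⟩ := CharP.exists F
  haveI : Fact c.Prime := ⟨CharP.char_is_prime F c⟩
  have hc3 : c = 3 := by
    obtain ⟨n, hn, hcq⟩ := FiniteField.card F c
    have h3 : c ∣ 3 ^ (2 * m + 1) := by rw [← hq, hqdef, hcq]; exact dvd_pow_self c n.pos.ne'
    exact (Nat.prime_dvd_prime_iff_eq hn Nat.prime_three).1 (hn.dvd_of_dvd_pow h3)
  obtain ⟨w, hw2, hw⟩ := PSL2.exists_inverting c (x := e x) (fun hd => by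
    rw [MulEquiv.orderOf_eq, hx, hc3] at hd
    exact hne ((Nat.prime_dvd_prime_iff_eq hp Nat.prime_three).1 hd))
  refine not_inverted hodd h hp (x := (x : G)) (u := ((e.symm w : L) : G)) (by rw [orderOf_coe, hx])
    ?_ ?_ hpπ
  · rw [← Subgroup.coe_mul, ← map_mul, hw2, map_one, Subgroup.coe_one]
  · have h1 : e.symm w * x * (e.symm w)⁻¹ = x⁻¹ := e.injective (by
      rw [map_mul, map_mul, map_inv, map_inv, e.apply_symm_apply, hw])
    simpa using congrArg Subtype.val h1

end Cfsg.Agent.PiHomogOdd
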