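import Cfsg.Agent.Lib.PiHomogOdd.Main
import Cfsg.Agent.Lib.PiHomogOdd.Ree
import Cfsg.Agent.Lib.AbelianSylow.Walter
import Cfsg.Agent.Lib.AbelianSylow.Chars.Main
import Cfsg.Agent.Lib.AbelianSylow.Cent.FieldFact

/-!
# The small Ree case and Walter's input from part (a) (owner: helper80)

* `reeNoPi_of`         : `ReeNoPi` from `CentTarget`
* `split_of_centTarget`: the theorem of S4047 from `CentTarget`
-/

set_option autoImplicit false
set_option linter.unusedSectionVars false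
set_option linter.style.haveILetI false

namespace Cfsg.Agent.PiHomogOdd

open Subgroup AbelianSylow
open Cfsg.Agent.PiHomog (Homog Split)

universe u

/-- A real element for each prime dividing `q² - q + 1`. -/
theorem exists_real {G : Type u} [Group G] [Finite G] {t : G} {F : Type} [Field F] [Fintype F]
    (hJ : JTData G t F) {n : ℕ} (hn : 1 ≤ n) (hF : Fintype.card F = 3 ^ (2 * n + 1)) {s : ℕ} (hs : s.Prime)
    (hsd : s ∣ Fintype.card F ^ 2 - Fintype.card F + 1) :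
    ∃ x u : G, orderOf x = s ∧ u * u = 1 ∧ u * x * u⁻¹ = x⁻¹ := by
  haveI : Fact s.Prime := ⟨hs⟩
  have hsd' : (s : ℤ) ∣ ((3 : ℤ) ^ (2 * n + 1)) ^ 2 - (3 : ℤ) ^ (2 * n + 1) + 1 := by
    have hle : Fintype.card F ≤ Fintype.card F ^ 2 := Nat.le_self_pow (by norm_num) _
    have h := Int.natCast_dvd_natCast.2 hsd
    rw [Nat.cast_add, Nat.cast_sub hle, Nat.cast_pow, Nat.cast_one] at h
    rwa [show ((Fintype.card F : ℕ) : ℤ) = (3 : ℤ) ^ (2 * n + 1) by rw [hF]; push_cast; rfl] at h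
  obtain ⟨y, P, ω, D⟩ := Field.exists_factData hJ hn hF hs hsd'
  obtain ⟨k, hk⟩ := D.pgroup.exists_card_eq
  have hk0 : k ≠ 0 := fun e => D.ne (eq_bot_of_card_eq _ (by rw [hk, e, pow_zero]))
  obtain ⟨x, hx⟩ := exists_prime_orderOf_dvd_card' (G := P) s (hk ▸ dvd_pow_self s hk0)
  exact ⟨x, t, (Subgroup.orderOf_coe x).trans hx, Involution.mul_self hJ.invol, D.inv x x.2⟩

/-- `ReeNoPi` from part (a). -/
theorem reeNoPi_of (hA : CentTarget.{u}) : ReeNoPi.{u} := by
  intro G _ _ _ hna hab _ π hodd hhom _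
  haveI : Fact (Nat.Prime 2) := ⟨Nat.prime_two⟩
  obtain ⟨S⟩ : Nonempty (Sylow 2 G) := inferInstance
  rcases AbelianSylow.simple_cases hna S (hab S) with ⟨a, -, F, _, _, -, ⟨e⟩⟩ | ⟨F, _, _, -, ⟨e⟩⟩ | h
  · exact no_pi_psl hodd hna hhom e
  · exact no_pi_psl hodd hna hhom e
  obtain ⟨t, F, iF, iF', hJ⟩ := hA G h
  rcases Chars.threeTarget G t F hJ with h5 | ⟨n, hn, hF⟩
  · exact no_pi_j1 hodd hna hhom (jt_isJ1 hJ h5).2
  · exact no_pi_jt hodd hhom hJ hF (hF ▸ Chars.orderTarget G t F hJ n hn hF)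
      fun s hs _ hsd => exists_real hJ hn hF hs hsd

/-- **The theorem of S4047**, given part (a). -/
theorem split_of_centTarget (hA : CentTarget.{u}) {π : Set ℕ} {G : Type u} [Group G] [Finite G]
    (hodd : ∀ p ∈ π, p ≠ 2) (hcls : SylClass G) (hhom : Homog π G) :
    ∃ K : Subgroup G, ∀ x : G, x ∈ K ↔ ∀ p : ℕ, p.Prime → p ∣ orderOf x → p ∉ π :=
  split_of_inputs (walter_of hA Chars.threeTarget Chars.orderTarget) (reeNoPi_of hA) hodd hcls hhom

end Cfsg.Agent.PiHomogOdd
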