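import Cfsg.Agent.Lib.PiHomogOdd.Reduce
import Cfsg.Agent.Lib.PiHomog.PSL
import Cfsg.Agent.Lib.DPiHomog.Main
import Cfsg.Agent.Lib.PSL2.Torus
import Cfsg.Agent.Lib.PSL2.Soluble
import Mathlib.GroupTheory.Transfer

/-!
# Pi-homogeneous simple groups for odd pi (owner: helper80)

* `not_inverted`       : no involution inverts an element of prime order in `π`
* `not_mem_of_small`   : a Sylow subgroup of order `r` with no prime of `r - 1` in `π`: `r ∉ π`
* `no_pi_of_single`    : a simple group does not have exactly one prime in `π`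
* `no_pi_psl`, `no_pi_altSeven`, `no_pi_j1` : some simple groups
-/

set_option autoImplicit false
set_option linter.unusedSectionVars false
set_option linter.style.haveILetI false

namespace Cfsg.Agent.PiHomogOdd

open Subgroup
open Cfsg.Agent.PiHomog (IsPi IsPiPrime Homog Split isPi_of_isPGroup)

universe u

variable {π : Set ℕ} {G : Type u} [Group G] [Finite G]

/-- No involution inverts an element of prime order in `π`. -/
theorem not_inverted (hodd : ∀ p ∈ π, p ≠ 2) (h : Homog π G) {x u : G} {r : ℕ} (hr : r.Prime) (hx : orderOf x = r)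
    (hu : u * u = 1) (hinv : u * x * u⁻¹ = x⁻¹) : r ∉ π := fun hrπ => by
  haveI : Fact r.Prime := ⟨hr⟩
  have huπ : IsPiPrime π u := fun p hp hd hpπ => hodd p hpπ
    ((Nat.prime_dvd_prime_iff_eq hp Nat.prime_two).1
      (hd.trans (orderOf_dvd_of_pow_eq_one (by rw [pow_two, hu]))))
  have hu' : u⁻¹ = u := inv_eq_of_mul_eq_one_right hu
  have key : ∀ z ∈ zpowers x, u * z * u⁻¹ ∈ zpowers x := by
    rintro _ ⟨k, rfl⟩
    simp only
    rw [← conj_zpow, hinv]
    exact zpow_mem (inv_mem (mem_zpowers x)) k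
  have huN : u ∈ normalizer (zpowers x : Set G) := mem_normalizer_iff.2 fun y => ⟨key y, fun hy => by
    have h2 := key _ hy
    rw [hu'] at h2
    simpa [← mul_assoc, hu, mul_assoc y u u] using h2⟩
  have hc := h.mem_centralizer (isPi_of_isPGroup hrπ
    (IsPGroup.of_card (n := 1) (by rw [Nat.card_zpowers, hx, pow_one]))) huN huπ
  rw [← mem_centralizer_iff.1 hc x (mem_zpowers x), mul_inv_cancel_right, eq_inv_iff_mul_eq_one,
    ← pow_two, ← orderOf_dvd_iff_pow_eq_one, hx] at hinv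
  exact hodd r hrπ ((Nat.prime_dvd_prime_iff_eq hr Nat.prime_two).1 hinv)

/-- A Sylow subgroup of order `r`, no prime of `r - 1` in `π`. -/
theorem not_mem_of_small [IsSimpleGroup G] (hna : ¬ IsMulCommutative G) (h : Homog π G) {r : ℕ} (hr : r.Prime)
    (hd : r ∣ Nat.card G) (hd2 : ¬ r ^ 2 ∣ Nat.card G)
    (hsmall : ∀ p : ℕ, p.Prime → p ∣ r - 1 → p ∉ π) : r ∉ π := fun hrπ => by
  haveI : Fact r.Prime := ⟨hr⟩
  obtain ⟨P⟩ : Nonempty (Sylow r G) := inferInstance
  have hP : Nat.card (P : Subgroup G) = r := by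
    have h1 : r ∣ Nat.card (P : Subgroup G) := P.dvd_card_of_dvd_card hd
    obtain ⟨k, hk⟩ := IsPGroup.iff_card.1 P.2
    rw [hk] at h1 ⊢
    have hk0 : k ≠ 0 := fun e => by rw [e, pow_zero] at h1; exact hr.not_dvd_one h1
    have hk2 : k < 2 := by
      by_contra hcon
      exact hd2 ((pow_dvd_pow r (not_lt.1 hcon)).trans (hk ▸ card_subgroup_dvd_card _))
    rw [show k = 1 by omega, pow_one]
  have hne : (P : Subgroup G) ≠ ⊥ := fun e => by
    rw [e, card_bot] at hP
    exact hr.ne_one hP.symm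
  set N := normalizer ((P : Subgroup G) : Set G)
  set C := centralizer ((P : Subgroup G) : Set G)
  -- `N / C` divides `r - 1`
  have hdvd : C.relIndex N ∣ r - 1 := by
    haveI : IsCyclic (P : Subgroup G) := isCyclic_of_prime_card hP
    have hcard : Nat.card (MulAut (P : Subgroup G)) = r - 1 := by
      rw [IsCyclic.card_mulAut, hP, Nat.totient_prime hr]
    let φ := normalizerMonoidHom (P : Subgroup G)
    have hker : φ.ker = C.subgroupOf N := normalizerMonoidHom_ker _
    rw [relIndex, ← hker, index_ker, ← hcard]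
    exact card_subgroup_dvd_card _
  have h1 : C.relIndex N = 1 := by
    by_contra hcon
    obtain ⟨p, hp, hpd⟩ := Nat.exists_prime_and_dvd hcon
    exact hsmall p hp (hpd.trans hdvd) (h _ hne (isPi_of_isPGroup hrπ P.2) p hp hpd)
  have hNC : N ≤ C := relIndex_eq_one.1 h1
  have hcomp := MonoidHom.ker_transferSylow_isComplement' P hNC
  rcases (inferInstance : (MonoidHom.transferSylow P hNC).ker.Normal).eq_bot_or_eq_top with e | e
  · rw [e] at hcomp
    have htop : (P : Subgroup G) = ⊤ := Subgroup.isComplement'_bot_left.1 hcomp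
    refine hna ?_
    haveI : IsCyclic (P : Subgroup G) := isCyclic_of_prime_card hP
    exact ⟨⟨fun a b => congrArg Subtype.val
      ((IsCyclic.commGroup (α := (P : Subgroup G))).mul_comm ⟨a, htop ▸ mem_top a⟩ ⟨b, htop ▸ mem_top b⟩)⟩⟩
  · rw [e] at hcomp
    exact hne (Subgroup.isComplement'_top_left.1 hcomp)

/-- A simple group does not have exactly one prime in `π`. -/
theorem no_pi_of_single [IsSimpleGroup G] (hna : ¬ IsMulCommutative G) (h : Homog π G) (r : ℕ)
    (hall : ∀ p : ℕ, p.Prime → p ∈ π → p ∣ Nat.card G → p = r) :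
    ∀ p : ℕ, p.Prime → p ∣ Nat.card G → p ∉ π := fun p hp hpd hpπ => by
  obtain rfl := hall p hp hpπ hpd
  haveI : Fact p.Prime := ⟨hp⟩
  have hD : Cfsg.IsDPiGroup π G := by
    have hgrp : ∀ H : Subgroup G, Cfsg.IsPiSubgroup π H → IsPGroup p H := fun H hH => by
      obtain ⟨k, hk⟩ : ∃ k, Nat.card H = p ^ k :=
        ⟨_, Nat.eq_prime_pow_of_unique_prime_dvd Nat.card_pos.ne' fun {q} hq hqd =>
          hall q hq (hH q hq hqd) (hqd.trans (card_subgroup_dvd_card H))⟩
      exact IsPGroup.of_card hk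
    have hsyl : ∀ H : Subgroup G, Maximal (Cfsg.IsPiSubgroup π) H → ∃ P : Sylow p G, (P : Subgroup G) = H := by
      intro H hH
      obtain ⟨P, hP⟩ := (hgrp H hH.1).exists_le_sylow
      refine ⟨P, le_antisymm (hH.2 (fun q hq hqd => ?_) hP) hP⟩
      obtain ⟨k, hk⟩ := IsPGroup.iff_card.1 P.2
      rw [hk] at hqd
      exact (Nat.prime_dvd_prime_iff_eq hq hp).1 (hq.dvd_of_dvd_pow hqd) ▸ hpπ
    intro H K hH hK
    obtain ⟨P, rfl⟩ := hsyl H hH
    obtain ⟨Q, rfl⟩ := hsyl K hK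
    obtain ⟨g, rfl⟩ := MulAction.exists_smul_eq G P Q
    exact ⟨g, rfl⟩
  obtain ⟨K, hK⟩ := DPiHomog.piPrimeClosed π hD h
  haveI := PiHomog.split_normal hK
  rcases (inferInstance : K.Normal).eq_bot_or_eq_top with e | e
  · -- then `G` is a `p`-group
    have hpgrp : IsPGroup p G := by
      refine IsPGroup.of_card (n := (Nat.card G).primeFactorsList.length)
        (Nat.eq_prime_pow_of_unique_prime_dvd Nat.card_pos.ne' fun {q} hq hqd => ?_)
      by_contra hne
      haveI : Fact q.Prime := ⟨hq⟩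
      obtain ⟨y, hy⟩ := exists_prime_orderOf_dvd_card' (G := G) q hqd
      have hyK : y ∈ K := (hK y).2 fun l hl hld hlπ => by
        rw [hy] at hld
        obtain rfl := (Nat.prime_dvd_prime_iff_eq hl hq).1 hld
        exact hne (hall l hl hlπ hqd)
      rw [e, mem_bot] at hyK
      rw [hyK, orderOf_one] at hy
      exact hq.ne_one hy.symm
    haveI : Nontrivial G := inferInstance
    haveI := hpgrp.center_nontrivial
    rcases (inferInstance : (center G).Normal).eq_bot_or_eq_top with e' | e'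
    · exact (nontrivial_iff_ne_bot _).1 ‹_› e'
    · exact hna ⟨⟨fun a b => (mem_center_iff.1 (e' ▸ mem_top b) a)⟩⟩
  · obtain ⟨y, hy⟩ := exists_prime_orderOf_dvd_card' (G := G) p hpd
    exact (hK y).1 (e ▸ mem_top y) p hp (by rw [hy]) hpπ

/-- The projective special linear groups. -/
theorem no_pi_psl (hodd : ∀ p ∈ π, p ≠ 2) [IsSimpleGroup G] (hna : ¬ IsMulCommutative G) (h : Homog π G)
    {F : Type} [Field F] [Finite F] (e : G ≃* PSL2.PSL2 F) :
    ∀ p : ℕ, p.Prime → p ∣ Nat.card G → p ∉ π := by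
  obtain ⟨c, hc⟩ := CharP.exists F
  haveI : Fact c.Prime := ⟨CharP.char_is_prime F c⟩
  refine no_pi_of_single hna h c fun p hp hpπ hpd => ?_
  by_contra hne
  haveI : Fact p.Prime := ⟨hp⟩
  obtain ⟨x, hx⟩ := exists_prime_orderOf_dvd_card' (G := G) p hpd
  obtain ⟨w, hw2, hw⟩ := PSL2.exists_inverting c (x := e x) (fun hd => by
    rw [MulEquiv.orderOf_eq, hx] at hd
    exact hne ((Nat.prime_dvd_prime_iff_eq hp (Fact.out : c.Prime)).1 hd))
  refine not_inverted hodd h hp hx (u := e.symm w) ?_ (e.injective ?_) hpπ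
  · rw [← map_mul, hw2, map_one]
  · rw [map_mul, map_mul, map_inv, map_inv, e.apply_symm_apply, hw]

theorem altSeven_three : ∃ x u : alternatingGroup (Fin 7), orderOf x = 3 ∧ u * u = 1 ∧ u * x * u⁻¹ = x⁻¹ := by
  refine ⟨⟨Equiv.swap 0 1 * Equiv.swap 1 2, ?_⟩, ⟨Equiv.swap 1 2 * Equiv.swap 3 4, ?_⟩, ?_, ?_, ?_⟩
  · rw [Equiv.Perm.mem_alternatingGroup]; decide
  · rw [Equiv.Perm.mem_alternatingGroup]; decide
  · exact orderOf_eq_prime (Subtype.ext (by decide)) (by decide)
  · exact Subtype.ext (by decide)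
  · exact Subtype.ext (by decide)

/-- The alternating group of degree seven. -/
theorem no_pi_altSeven (hodd : ∀ p ∈ π, p ≠ 2) [IsSimpleGroup G] (hna : ¬ IsMulCommutative G) (h : Homog π G)
    (e : G ≃* alternatingGroup (Fin 7)) : ∀ p : ℕ, p.Prime → p ∣ Nat.card G → p ∉ π := by
  have hcard : Nat.card G = 2520 := by
    rw [Nat.card_congr e.toEquiv, nat_card_alternatingGroup, Nat.card_fin]
    rfl
  have h3 : 3 ∉ π := by
    obtain ⟨x, u, hx, hu, hxu⟩ := altSeven_three
    refine not_inverted hodd h Nat.prime_three (x := e.symm x) (u := e.symm u)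
      (by rw [MulEquiv.orderOf_eq, hx]) (by rw [← map_mul, hu, map_one]) (e.injective ?_)
    rw [map_mul, map_mul, map_inv, map_inv, e.apply_symm_apply, e.apply_symm_apply, hxu]
  have h5 : 5 ∉ π := not_mem_of_small hna h Nat.prime_five (by rw [hcard]; norm_num)
    (by rw [hcard]; norm_num) fun p hp hd => by
      have : p ∣ 2 ^ 2 := hd
      rw [(Nat.prime_dvd_prime_iff_eq hp Nat.prime_two).1 (hp.dvd_of_dvd_pow this)]
      exact fun h2 => hodd 2 h2 rfl
  refine no_pi_of_single hna h 7 fun p hp hpπ hpd => ?_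
  rw [hcard, show (2520 : ℕ) = 2 ^ 3 * 3 ^ 2 * 5 * 7 by norm_num] at hpd
  rcases hp.dvd_mul.1 hpd with hpd | h'
  rcases hp.dvd_mul.1 hpd with hpd | h'
  rcases hp.dvd_mul.1 hpd with hpd | h'
  · exact absurd ((Nat.prime_dvd_prime_iff_eq hp Nat.prime_two).1 (hp.dvd_of_dvd_pow hpd)) (hodd p hpπ)
  · exact absurd ((Nat.prime_dvd_prime_iff_eq hp Nat.prime_three).1 (hp.dvd_of_dvd_pow h') ▸ hpπ) h3
  · exact absurd ((Nat.prime_dvd_prime_iff_eq hp Nat.prime_five).1 h' ▸ hpπ) h5
  · exact (Nat.prime_dvd_prime_iff_eq hp (by norm_num)).1 h'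

/-- Simple groups of order `175560`. -/
theorem no_pi_j1 (hodd : ∀ p ∈ π, p ≠ 2) [IsSimpleGroup G] (hna : ¬ IsMulCommutative G) (h : Homog π G)
    (hcard : Nat.card G = 175560) : ∀ p : ℕ, p.Prime → p ∣ Nat.card G → p ∉ π := by
  have h2 : 2 ∉ π := fun h' => hodd 2 h' rfl
  have key : ∀ r : ℕ, r.Prime → r ∣ Nat.card G → ¬ r ^ 2 ∣ Nat.card G → ∀ a b : ℕ, r - 1 ∣ 2 ^ a * b →
      (∀ p : ℕ, p.Prime → p ∣ b → p ∉ π) → r ∉ π := fun r hr hd hd2 a b hab hb =>
    not_mem_of_small hna h hr hd hd2 fun p hp hpd => by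
      rcases hp.dvd_mul.1 (hpd.trans hab) with h' | h'
      · rw [(Nat.prime_dvd_prime_iff_eq hp Nat.prime_two).1 (hp.dvd_of_dvd_pow h')]; exact h2
      · exact hb p hp h'
  have h3 : 3 ∉ π := key 3 Nat.prime_three (by rw [hcard]; norm_num) (by rw [hcard]; norm_num) 1 1
    (by norm_num) fun p hp hd => absurd hd hp.not_dvd_one
  have h5 : 5 ∉ π := key 5 Nat.prime_five (by rw [hcard]; norm_num) (by rw [hcard]; norm_num) 2 1
    (by norm_num) fun p hp hd => absurd hd hp.not_dvd_one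
  have h7 : 7 ∉ π := key 7 (by norm_num) (by rw [hcard]; norm_num) (by rw [hcard]; norm_num) 1 3
    (by norm_num) fun p hp hd => (Nat.prime_dvd_prime_iff_eq hp Nat.prime_three).1 hd ▸ h3
  have h11 : 11 ∉ π := key 11 (by norm_num) (by rw [hcard]; norm_num) (by rw [hcard]; norm_num) 1 5
    (by norm_num) fun p hp hd => (Nat.prime_dvd_prime_iff_eq hp Nat.prime_five).1 hd ▸ h5
  refine no_pi_of_single hna h 19 fun p hp hpπ hpd => ?_
  rw [hcard, show (175560 : ℕ) = 2 ^ 3 * 3 * 5 * 7 * 11 * 19 by norm_num] at hpd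
  rcases hp.dvd_mul.1 hpd with hpd | h'
  rcases hp.dvd_mul.1 hpd with hpd | h'
  rcases hp.dvd_mul.1 hpd with hpd | h'
  rcases hp.dvd_mul.1 hpd with hpd | h'
  rcases hp.dvd_mul.1 hpd with hpd | h'
  · exact absurd ((Nat.prime_dvd_prime_iff_eq hp Nat.prime_two).1 (hp.dvd_of_dvd_pow hpd) ▸ hpπ) h2
  · exact absurd ((Nat.prime_dvd_prime_iff_eq hp Nat.prime_three).1 h' ▸ hpπ) h3
  · exact absurd ((Nat.prime_dvd_prime_iff_eq hp Nat.prime_five).1 h' ▸ hpπ) h5
  · exact absurd ((Nat.prime_dvd_prime_iff_eq hp (by norm_num : Nat.Prime 7)).1 h' ▸ hpπ) h7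
  · exact absurd ((Nat.prime_dvd_prime_iff_eq hp (by norm_num : Nat.Prime 11)).1 h' ▸ hpπ) h11
  · exact (Nat.prime_dvd_prime_iff_eq hp (by norm_num)).1 h'

end Cfsg.Agent.PiHomogOdd
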